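import Cfsg.Agent.BlockBasic.Kernel
import Cfsg.Agent.BlockBasic.Orth
import Cfsg.Agent.Cores.PCore
import Cfsg.Agent.Cores.PrincipalLambda
import Cfsg.Agent.S0939
import Cfsg.Agent.H86.InducedIndicator
import Cfsg.Agent.H81.PairSolvable
import Cfsg.Agent.Fusion.PComplement
import Cfsg.Agent.H43.Galois

/-!
# Principal blocks with few characters
-/

open scoped ComplexConjugate

namespace Cfsg.Agent.H81.SmallBlock

open CharBasic BlockBasic Cfsg

universe u

variable {G : Type u} [Group G] [Fintype G] {p : ℕ} [Fact p.Prime] {M : Ideal Cfsg.AlgInt}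

open scoped Classical in
/-- The principal block as a finset. -/
noncomputable def prin (M : Ideal Cfsg.AlgInt) (G : Type u) [Group G] [Fintype G] :
    Finset (Cfsg.IrrCharacter G) :=
  Finset.univ.filter fun χ => χ ∈ Cfsg.principalBlock M G

theorem mem_prin {χ : Cfsg.IrrCharacter G} : χ ∈ prin M G ↔ χ ∈ Cfsg.principalBlock M G := by
  classical
  simp [prin]

theorem trivial_mem (hM : Cfsg.IsPModular p M) : (trivialIrr : Cfsg.IrrCharacter G) ∈ prin M G :=
  mem_prin.2 (sameBlock_refl hM _)

theorem card_prin : (prin M G).card = Nat.card (Cfsg.principalBlock M G) := by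
  classical
  rw [Nat.card_eq_fintype_card, prin, ← Fintype.card_subtype]

theorem sum_kernel (g h : G) :
    blockKernel (Cfsg.principalBlock M G) g h =
      ∑ χ ∈ prin M G, (χ : G → ℂ) g * conj ((χ : G → ℂ) h) := by
  classical
  rw [blockKernel, finsum_mem_eq_sum_ite, prin, Finset.sum_filter]

theorem orth_regular_singular (hM : Cfsg.IsPModular p M) {g h : G} (hg : ¬ p ∣ orderOf g)
    (hh : p ∣ orderOf h) : ∑ χ ∈ prin M G, (χ : G → ℂ) h * conj ((χ : G → ℂ) g) = 0 := by
  rw [← sum_kernel, ← conj_blockKernel, blockKernel_eq_zero_of_regular_of_singular hM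
    (isPBlock_principalBlock M) hg hh, map_zero]

open scoped Classical in
theorem sum_singular_eq_zero (hM : Cfsg.IsPModular p M) {η : Cfsg.IrrCharacter G}
    (hη : η ∉ prin M G) :
    ∑ g ∈ Finset.univ.filter (fun g : G => p ∣ orderOf g), (η : G → ℂ) g = 0 := by
  have hne : η ≠ (trivialIrr : Cfsg.IrrCharacter G) := fun h => hη (h ▸ trivial_mem hM)
  have hreg := sum_regular_eq_zero hM (isPBlock_principalBlock M)
    (χ := (trivialIrr : Cfsg.IrrCharacter G)) (sameBlock_refl hM _) (fun h => hη (mem_prin.2 h))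
  have hreg' := congrArg (starRingEnd ℂ) hreg
  simp only [trivialIrr, one_mul, map_sum, Complex.conj_conj, map_zero] at hreg'
  have h := classInner_irrCharacter η trivialIrr
  rw [classInner_def, if_neg hne, inv_mul_eq_iff_eq_mul₀ (Nat.cast_ne_zero.2 Nat.card_pos.ne'),
    mul_zero] at h
  simp only [trivialIrr, map_one, mul_one] at h
  rw [← Finset.sum_filter_add_sum_filter_not Finset.univ (fun g : G => p ∣ orderOf g), hreg',
    add_zero] at h
  exact h

/-- If the characters of the principal block are constant on `p`-regular elements, then they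
number the classes of a Sylow subgroup. -/
theorem card_eq_classes_of_regular_const (hM : Cfsg.IsPModular p M)
    (h : ∀ χ ∈ prin M G, ∀ g : G, ¬ p ∣ orderOf g → (χ : G → ℂ) g = (χ : G → ℂ) 1) (D : Sylow p G) :
    (prin M G).card = Nat.card (ConjClasses (D : Subgroup G)) := by
  classical
  obtain ⟨K, hKn, hK⟩ := exists_blockKer (Cfsg.principalBlock M G)
  haveI := hKn
  have hKp : ¬ p ∣ Nat.card K := not_dvd_card_blockKer hM (isPBlock_principalBlock M) hK
  have hreg : ∀ g : G, ¬ p ∣ orderOf g → g ∈ K := fun g hg => by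
    rw [← SetLike.mem_coe, hK]
    exact fun χ hχ => h χ (mem_prin.2 hχ) g hg
  have hQ : IsPGroup p (G ⧸ K) := by
    intro y
    obtain ⟨g, rfl⟩ := QuotientGroup.mk'_surjective K y
    refine ⟨(Nat.card G).factorization p, ?_⟩
    rw [← map_pow, QuotientGroup.mk'_apply, QuotientGroup.eq_one_iff]
    exact hreg _ (not_dvd_orderOf_pow_factorization g le_rfl)
  haveI : Fintype (G ⧸ K) := Fintype.ofFinite _
  have hall : Cfsg.principalBlock M (G ⧸ K) = Set.univ := by
    obtain ⟨k, hk⟩ := IsPGroup.iff_card.1 hQ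
    obtain ⟨k', hk'⟩ : ∃ k', (Cfsg.pPrimeCore p (G ⧸ K)).index = p ^ k' := by
      obtain ⟨k', -, hk'⟩ := (Nat.dvd_prime_pow (Fact.out : p.Prime)).1
        (hk ▸ Subgroup.index_dvd_card (Cfsg.pPrimeCore p (G ⧸ K)))
      exact ⟨k', hk'⟩
    rw [Cfsg.Agent.S0939.result p M hM ⟨k', hk'⟩]
    refine Set.eq_univ_of_forall fun χ n hn => ?_
    have h1 : n = 1 := by
      rw [← orderOf_eq_one_iff]
      have hd : orderOf n ∣ Nat.card (Cfsg.pPrimeCore p (G ⧸ K)) := by
        have := orderOf_dvd_natCard (⟨n, hn⟩ : Cfsg.pPrimeCore p (G ⧸ K))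
        rwa [Subgroup.orderOf_mk] at this
      exact Nat.eq_one_of_dvd_coprimes (Cores.coprime_card_pPrimeCore.pow_right k) hd
        (hk ▸ orderOf_dvd_natCard n)
    rw [h1]
  have h1 := Cores.sum_principalBlock_quotient hM K hKp (fun _ => (1 : ℕ))
  rw [finsum_mem_eq_finite_toFinset_sum _ (Set.toFinite _),
    finsum_mem_eq_finite_toFinset_sum _ (Set.toFinite _)] at h1
  simp only [Finset.sum_const, smul_eq_mul, mul_one] at h1
  rw [card_prin, Nat.card_coe_set_eq, Set.ncard_eq_toFinset_card _ (Set.toFinite _), h1,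
    ← Set.ncard_eq_toFinset_card _ (Set.toFinite _), hall, Set.ncard_univ,
    card_irrCharacter]
  -- the quotient is the Sylow subgroup
  let f := (QuotientGroup.mk' K).comp (D : Subgroup G).subtype
  have hinj : Function.Injective f := by
    rw [injective_iff_map_eq_one]
    intro d hd
    have hdK : (d : G) ∈ K := (QuotientGroup.eq_one_iff _).1 hd
    obtain ⟨k, hk⟩ := IsPGroup.iff_orderOf.1 D.isPGroup' d
    rw [← orderOf_eq_one_iff, hk]
    rcases k with _ | k
    · exact pow_zero p
    · refine absurd ?_ hKp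
      have := orderOf_dvd_natCard (⟨d, hdK⟩ : K)
      rw [Subgroup.orderOf_mk, Subgroup.orderOf_coe, hk] at this
      exact (dvd_pow_self p k.succ_ne_zero).trans this
  have hsurj : Function.Surjective f := by
    intro y
    obtain ⟨R, hR⟩ : ∃ R : Sylow p (G ⧸ K),
        R = D.mapSurjective (QuotientGroup.mk'_surjective K) := ⟨_, rfl⟩
    have htop : (R : Subgroup (G ⧸ K)) = ⊤ :=
      R.is_maximal' (hQ.to_subgroup ⊤) le_top |>.symm
    have hy : y ∈ (D : Subgroup G).map (QuotientGroup.mk' K) := by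
      rw [← Sylow.coe_mapSurjective (QuotientGroup.mk'_surjective K), ← hR, htop]
      trivial
    obtain ⟨d, hd, rfl⟩ := hy
    exact ⟨⟨d, hd⟩, rfl⟩
  let e := MulEquiv.ofBijective f ⟨hinj, hsurj⟩
  exact Nat.card_congr
    { toFun := ConjClasses.map e.symm.toMonoidHom
      invFun := ConjClasses.map e.toMonoidHom
      left_inv := fun c => Quotient.inductionOn c fun a =>
        congrArg ConjClasses.mk (e.apply_symm_apply a)
      right_inv := fun c => Quotient.inductionOn c fun a =>
        congrArg ConjClasses.mk (e.symm_apply_apply a) }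

/-- A normal `p`-complement makes the principal block constant on `p`-regular elements. -/
theorem regular_const_of_complement (hM : Cfsg.IsPModular p M)
    (hG : Cfsg.HasNormalPComplement p G) :
    ∀ χ ∈ prin M G, ∀ g : G, ¬ p ∣ orderOf g → (χ : G → ℂ) g = (χ : G → ℂ) 1 := by
  intro χ hχ g hg
  obtain ⟨Q, N, hN, hQN⟩ := hG
  haveI := hN
  have hidx : N.index = Nat.card (Q : Subgroup G) := hQN.symm.index_eq_card
  have hNp : ¬ p ∣ Nat.card N := by
    rw [← hQN.index_eq_card]
    exact Q.not_dvd_index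
  obtain ⟨k, hk⟩ := IsPGroup.iff_card.1 Q.isPGroup'
  exact le_blockKer hM (χ := (trivialIrr : Cfsg.IrrCharacter G)) (mem_prin.1 hχ) N hNp (fun _ _ => rfl) (mem_of_regular ⟨k, hidx.trans hk⟩ hg)

/-- The square map on elements of odd `p`-singular type. -/
theorem dvd_orderOf_sq (hp2 : p ≠ 2) (g : G) : p ∣ orderOf (g * g) ↔ p ∣ orderOf g := by
  have hp : p.Prime := Fact.out
  rw [← pow_two]
  refine ⟨fun h => h.trans (orderOf_pow_dvd 2), fun h => ?_⟩
  have h2 : orderOf g ∣ 2 * orderOf (g ^ 2) := by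
    refine orderOf_dvd_of_pow_eq_one ?_
    rw [pow_mul, pow_orderOf_eq_one]
  exact (hp.dvd_mul.1 (h.trans h2)).resolve_left fun h => hp2
    ((Nat.prime_dvd_prime_iff_eq hp Nat.prime_two).1 h)

/-- The indicator of a character. -/
noncomputable def ind (χ : Cfsg.IrrCharacter G) : ℂ :=
  (Nat.card G : ℂ)⁻¹ * ∑ s : G, (χ : G → ℂ) (s * s)

theorem ind_trivial : ind (trivialIrr : Cfsg.IrrCharacter G) = 1 := by
  simp [ind, trivialIrr, ← Nat.card_eq_fintype_card, Finset.card_univ]

set_option maxHeartbeats 1000000 in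
open scoped Classical in
/-- The sum of the indicators weighted by the singular sums. -/
theorem sum_ind (hM : Cfsg.IsPModular p M) (hp2 : p ≠ 2) :
    ∑ χ ∈ prin M G, conj (ind χ) *
        ∑ g ∈ Finset.univ.filter (fun g : G => p ∣ orderOf g), (χ : G → ℂ) g =
      ((Finset.univ.filter (fun g : G => p ∣ orderOf g)).card : ℂ) := by
  set W := Finset.univ.filter (fun g : G => p ∣ orderOf g) with hW
  have hG0 : (Nat.card G : ℂ) ≠ 0 := Nat.cast_ne_zero.2 Nat.card_pos.ne'
  calc ∑ χ ∈ prin M G, conj (ind χ) * ∑ g ∈ W, (χ : G → ℂ) g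
      = ∑ χ : Cfsg.IrrCharacter G, conj (ind χ) * ∑ g ∈ W, (χ : G → ℂ) g :=
        Finset.sum_subset (Finset.subset_univ _) fun χ _ hχ => by
          rw [hW, sum_singular_eq_zero hM hχ, mul_zero]
    _ = (Nat.card G : ℂ)⁻¹ * ∑ s : G, ∑ g ∈ W, ∑ χ : Cfsg.IrrCharacter G,
          (χ : G → ℂ) g * conj ((χ : G → ℂ) (s * s)) := by
        simp only [ind, map_mul, map_inv₀, map_natCast, map_sum, Finset.mul_sum, Finset.sum_mul]
        rw [Finset.sum_comm (s := (Finset.univ : Finset G))]
        rw [Finset.sum_comm]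
        refine Finset.sum_congr rfl fun g _ => ?_
        rw [Finset.sum_comm]
        exact Finset.sum_congr rfl fun s _ => Finset.sum_congr rfl fun χ _ => by ring
    _ = (Nat.card G : ℂ)⁻¹ * ∑ s : G, if s * s ∈ W then (Nat.card G : ℂ) else 0 := by
        congr 1
        refine Finset.sum_congr rfl fun s _ => ?_
        rw [← Finset.sum_filter_add_sum_filter_not W (fun g => IsConj (s * s) g)]
        rw [Finset.sum_eq_zero (s := W.filter fun g => ¬ IsConj (s * s) g) fun g hg =>
          second_orthogonality_not_isConj fun h => (Finset.mem_filter.1 hg).2 h.symm, add_zero]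
        split_ifs with hs
        · rw [Finset.sum_congr rfl (g := fun _ => ((Nat.card (Subgroup.centralizer ({s * s} : Set G)) : ℕ) : ℂ))
            fun g hg => by
              obtain ⟨v, rfl⟩ := isConj_iff.1 (Finset.mem_filter.1 hg).2
              rw [Finset.sum_congr rfl fun χ _ => by rw [IsIrr.isClassFunction χ.2 (s * s) v]]
              rw [second_orthogonality_self], Finset.sum_const, nsmul_eq_mul]
          have hcl : W.filter (fun g => IsConj (s * s) g) =
              Finset.univ.filter (fun g => IsConj (s * s) g) := by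
            ext g
            simp only [hW, Finset.mem_filter, Finset.mem_univ, true_and, and_iff_right_iff_imp]
            intro hg
            obtain ⟨v, rfl⟩ := isConj_iff.1 hg
            rw [← MulAut.conj_apply, MulEquiv.orderOf_eq]
            exact (Finset.mem_filter.1 hs).2
          rw [hcl, ← Fintype.card_subtype, ← Nat.card_eq_fintype_card,
            PairSolvable.card_class_eq_index, ← Nat.cast_mul, Subgroup.index_mul_card]
        · refine Finset.sum_eq_zero fun g hg => absurd ?_ hs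
          obtain ⟨hgW, hg⟩ := Finset.mem_filter.1 hg
          obtain ⟨v, rfl⟩ := isConj_iff.1 hg
          simp only [hW, Finset.mem_filter, Finset.mem_univ, true_and] at hgW ⊢
          rwa [← MulAut.conj_apply, MulEquiv.orderOf_eq] at hgW
    _ = (W.card : ℂ) := by
        rw [← Finset.sum_filter, Finset.sum_const, nsmul_eq_mul, mul_comm (((_ : Finset G).card : ℂ)),
          inv_mul_cancel_left₀ hG0]
        congr 2
        ext s
        simp only [hW, Finset.mem_filter, Finset.mem_univ, true_and]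
        exact dvd_orderOf_sq hp2 s

/-- The complex conjugate of a character. -/
noncomputable def bar (χ : Cfsg.IrrCharacter G) : Cfsg.IrrCharacter G :=
  ⟨fun g => starRingEnd ℂ ((χ : G → ℂ) g),
    H43.aut_irr (Complex.conjAe.toRingEquiv) χ.2⟩

theorem bar_apply (χ : Cfsg.IrrCharacter G) (g : G) : (bar χ : G → ℂ) g = conj ((χ : G → ℂ) g) := rfl

/-- A value taken at every non-trivial element of a Sylow subgroup is an integer. -/
theorem exists_int_of_sylow_const (χ : Cfsg.IrrCharacter G) (D : Sylow p G)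
    (hD : 1 < Nat.card (D : Subgroup G)) {v : ℂ}
    (hv : ∀ u ∈ (D : Subgroup G), u ≠ 1 → (χ : G → ℂ) u = v) :
    ∃ a : ℤ, v = (a : ℂ) ∧
      (Nat.card (D : Subgroup G) : ℤ) ∣ (Cfsg.charDegree (χ : G → ℂ) : ℤ) - a := by
  classical
  haveI : Fintype (D : Subgroup G) := Fintype.ofFinite _
  obtain ⟨q, hq⟩ : ∃ q, Nat.card (D : Subgroup G) = q := ⟨_, rfl⟩
  rw [hq] at hD
  obtain ⟨m, hm⟩ := H83.sum_subgroup_eq (IsIrr.isCharacter χ.2) (D : Subgroup G)
  rw [hq, ← Finset.add_sum_erase _ _ (Finset.mem_univ (1 : (D : Subgroup G))), Subgroup.coe_one,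
    apply_one_eq_charDegree, Finset.sum_congr rfl (g := fun _ => v) fun (u : (D : Subgroup G)) hu =>
      hv (u : G) u.2 fun e => (Finset.mem_erase.1 hu).1 (Subtype.ext e),
    Finset.sum_const, Finset.card_erase_of_mem (Finset.mem_univ _), Finset.card_univ,
    ← Nat.card_eq_fintype_card, hq, nsmul_eq_mul, Nat.cast_sub (by omega), Nat.cast_one] at hm
  obtain ⟨u, hu1⟩ : ∃ u : (D : Subgroup G), u ≠ 1 := by
    haveI : Nontrivial (D : Subgroup G) := Finite.one_lt_card_iff_nontrivial.1 (hq.symm ▸ hD)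
    exact exists_ne 1
  have hint : IsIntegral ℤ v :=
    hv (u : G) u.2 (fun e => hu1 (Subtype.ext e)) ▸ IsChar.isIntegral (IsIrr.isCharacter χ.2) _
  obtain ⟨a, ha⟩ := PairSolvable.exists_int_of_mul hint
    (n := (q : ℤ) - 1) (a := (q : ℤ) * m - Cfsg.charDegree (χ : G → ℂ)) (by omega) (by
      push_cast
      linear_combination hm)
  refine ⟨a, ha, ⟨(m : ℤ) - a, ?_⟩⟩
  rw [ha] at hm
  have h : (Cfsg.charDegree (χ : G → ℂ) : ℤ) + ((q : ℤ) - 1) * a = (q : ℤ) * m := by
    exact_mod_cast hm
  rw [hq]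
  linear_combination h

/-- The values at singular elements do not vanish on all of a Sylow subgroup. -/
theorem value_ne_zero (hM : Cfsg.IsPModular p M) (hdvd : p ∣ Nat.card G) {χ : Cfsg.IrrCharacter G}
    (hχ : χ ∈ prin M G) (hχ1 : χ ≠ trivialIrr) (D : Sylow p G)
    {a : ℤ} (ha : (Nat.card (D : Subgroup G) : ℤ) ∣ (Cfsg.charDegree (χ : G → ℂ) : ℤ) - a) :
    a ≠ 0 := by
  intro h0
  rw [h0, sub_zero, Int.natCast_dvd_natCast] at ha
  have hns : blockOf M (χ : G → ℂ) = {χ} := by
    rw [blockOf_eq_singleton_iff hM]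
    intro hd
    refine D.not_dvd_index ?_
    obtain ⟨m, hm⟩ := charDegree_dvd χ
    obtain ⟨m', hm'⟩ := ha
    rw [hm, Nat.mul_div_cancel_left _ (charDegree_pos χ)] at hd
    rw [hm', mul_assoc, ← Subgroup.card_mul_index (D : Subgroup G)] at hm
    rw [Nat.eq_of_mul_eq_mul_left Nat.card_pos hm]
    exact dvd_mul_of_dvd_right hd m'
  have hB := isPBlock_eq_blockOf hM (isPBlock_principalBlock M) (mem_prin.1 hχ)
  have ht := (mem_prin.1 (trivial_mem (G := G) hM))
  rw [hB, hns, Set.mem_singleton_iff] at ht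
  exact hχ1 ht.symm

end Cfsg.Agent.H81.SmallBlock
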