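import Mathlib.GroupTheory.PGroup
import Mathlib.Algebra.Group.Conj
import Mathlib.GroupTheory.SpecificGroups.Cyclic
import Mathlib.GroupTheory.GroupAction.Quotient

/-!
# `p`-groups with few classes
-/

namespace Cfsg.Agent.H81.SmallBlock

universe u

/-- A group with at most two classes has order at most two. -/
theorem card_le_two {Q : Type u} [Group Q] [Finite Q] (h : Nat.card (ConjClasses Q) ≤ 2) :
    Nat.card Q ≤ 2 := by
  classical
  cases nonempty_fintype Q
  haveI : Finite (ConjClasses Q) := Finite.of_surjective _ ConjClasses.mk_surjective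
  haveI : Fintype (ConjClasses Q) := Fintype.ofFinite _
  by_contra hlt
  obtain ⟨x, hx⟩ : ∃ x : Q, x ≠ 1 := by
    haveI : Nontrivial Q := Finite.one_lt_card_iff_nontrivial.1 (by omega)
    exact exists_ne 1
  have hall : ∀ y : Q, y ≠ 1 → IsConj x y := by
    intro y hy
    by_contra hxy
    have hinj : ({ConjClasses.mk 1, ConjClasses.mk x, ConjClasses.mk y} : Finset (ConjClasses Q)).card = 3 :=
      Finset.card_eq_three.2 ⟨_, _, _,
        fun e => hx (isConj_one_right.1 (ConjClasses.mk_eq_mk_iff_isConj.1 e)),
        fun e => hy (isConj_one_right.1 (ConjClasses.mk_eq_mk_iff_isConj.1 e)),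
        fun e => hxy (ConjClasses.mk_eq_mk_iff_isConj.1 e), rfl⟩
    have := Finset.card_le_univ ({ConjClasses.mk 1, ConjClasses.mk x, ConjClasses.mk y} :
      Finset (ConjClasses Q))
    rw [hinj, ← Nat.card_eq_fintype_card] at this
    omega
  have hd : Nat.card {y : Q // IsConj x y} ∣ Nat.card Q := by
    have h1 := MulAction.index_stabilizer (G := ConjAct Q) (x := x)
    have h2 : Nat.card {y : Q // IsConj x y} = (MulAction.stabilizer (ConjAct Q) x).index := by
      rw [h1, ← Nat.card_coe_set_eq]
      exact Nat.card_congr (Equiv.subtypeEquivRight fun g => by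
        rw [ConjAct.mem_orbit_conjAct]; exact isConj_comm)
    rw [h2]
    exact Subgroup.index_dvd_card _
  have hc : Nat.card {y : Q // IsConj x y} = Nat.card Q - 1 := by
    rw [Nat.card_congr (Equiv.subtypeEquivRight fun y => ⟨fun hy e => hx ?_, hall y⟩ :
      {y : Q // IsConj x y} ≃ {y : Q // y ≠ 1})]
    · simp [Nat.card_eq_fintype_card, Fintype.card_subtype_compl]
    · subst e; exact isConj_one_left.1 hy
  rw [hc] at hd
  have := (Nat.dvd_sub hd dvd_rfl)
  rw [Nat.sub_sub_self (by omega)] at this
  have := Nat.le_of_dvd one_pos this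
  omega

/-- The classes of a group cover those of the central quotient and the centre. -/
theorem center_add_classes_le {Q : Type u} [Group Q] [Finite Q] :
    Nat.card (Subgroup.center Q) + Nat.card (ConjClasses (Q ⧸ Subgroup.center Q)) ≤
      Nat.card (ConjClasses Q) + 1 := by
  classical
  cases nonempty_fintype Q
  haveI : Fintype (Q ⧸ Subgroup.center Q) := Fintype.ofFinite _
  haveI : Finite (ConjClasses Q) := Finite.of_surjective _ ConjClasses.mk_surjective
  haveI : Fintype (ConjClasses Q) := Fintype.ofFinite _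
  haveI : Finite (ConjClasses (Q ⧸ Subgroup.center Q)) :=
    Finite.of_surjective _ ConjClasses.mk_surjective
  haveI : Fintype (ConjClasses (Q ⧸ Subgroup.center Q)) := Fintype.ofFinite _
  set π := ConjClasses.map (QuotientGroup.mk' (Subgroup.center Q)) with hπ
  have hs : Function.Surjective π :=
    ConjClasses.map_surjective (QuotientGroup.mk'_surjective _)
  rw [Nat.card_eq_fintype_card, Nat.card_eq_fintype_card, Nat.card_eq_fintype_card,
    ← Finset.card_univ (α := ConjClasses Q),
    ← Finset.card_filter_add_card_filter_not (fun c => π c = ConjClasses.mk 1)]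
  have h1 : Fintype.card (Subgroup.center Q) ≤
      (Finset.univ.filter fun c => π c = ConjClasses.mk 1).card := by
    rw [← Finset.card_univ]
    refine Finset.card_le_card_of_injOn (fun z => ConjClasses.mk (z : Q)) ?_ ?_
    · intro z _
      simp only [Finset.coe_filter, Finset.mem_univ, true_and, Set.mem_setOf_eq, hπ]
      exact congrArg ConjClasses.mk ((QuotientGroup.eq_one_iff _).2 z.2)
    · intro z _ w _ h
      obtain ⟨v, hv⟩ := isConj_iff.1 (ConjClasses.mk_eq_mk_iff_isConj.1 h)
      refine Subtype.ext ?_
      rw [← hv, Subgroup.mem_center_iff.1 z.2 v, mul_inv_cancel_right]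
  have h2 : Fintype.card (ConjClasses (Q ⧸ Subgroup.center Q)) ≤
      (Finset.univ.filter fun c => ¬ π c = ConjClasses.mk 1).card + 1 := by
    rw [← Finset.card_univ]
    refine le_trans (Finset.card_le_card (t := insert (ConjClasses.mk 1)
      ((Finset.univ.filter fun c => ¬ π c = ConjClasses.mk 1).image π)) ?_) ?_
    · intro y _
      obtain ⟨c, rfl⟩ := hs y
      by_cases h : π c = ConjClasses.mk 1
      · exact Finset.mem_insert.2 (Or.inl h)
      · exact Finset.mem_insert_of_mem (Finset.mem_image.2
          ⟨c, Finset.mem_filter.2 ⟨Finset.mem_univ _, h⟩, rfl⟩)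
    · exact (Finset.card_insert_le _ _).trans (Nat.add_le_add_right Finset.card_image_le 1)
  omega

/-- A small central quotient forces commutativity. -/
theorem comm_of_quotient_le_three {Q : Type u} [Group Q] [Finite Q]
    (h : Nat.card (Q ⧸ Subgroup.center Q) ≤ 3) (a b : Q) : a * b = b * a := by
  have hc : IsCyclic (Q ⧸ Subgroup.center Q) := by
    have hpos : 0 < Nat.card (Q ⧸ Subgroup.center Q) := Nat.card_pos
    rcases (show Nat.card (Q ⧸ Subgroup.center Q) = 1 ∨ Nat.card (Q ⧸ Subgroup.center Q) = 2 ∨
      Nat.card (Q ⧸ Subgroup.center Q) = 3 by omega) with h1 | h1 | h1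
    · haveI : Subsingleton (Q ⧸ Subgroup.center Q) := (Nat.card_eq_one_iff_unique.1 h1).1
      infer_instance
    · haveI : Fact (Nat.Prime 2) := ⟨Nat.prime_two⟩
      exact isCyclic_of_prime_card h1
    · haveI : Fact (Nat.Prime 3) := ⟨Nat.prime_three⟩
      exact isCyclic_of_prime_card h1
  exact commutative_of_cyclic_center_quotient (QuotientGroup.mk' (Subgroup.center Q))
    (by rw [QuotientGroup.ker_mk']) a b

theorem card_eq_of_comm {Q : Type u} [Group Q] [Finite Q] (hc : ∀ a b : Q, a * b = b * a) :
    Nat.card Q = Nat.card (ConjClasses Q) := by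
  refine Nat.card_congr (Equiv.ofBijective ConjClasses.mk
    ⟨fun a b hab => ?_, ConjClasses.mk_surjective⟩)
  obtain ⟨v, hv⟩ := isConj_iff.1 (ConjClasses.mk_eq_mk_iff_isConj.1 hab)
  rw [← hv, hc v a, mul_inv_cancel_right]

theorem two_le_center {Q : Type u} [Group Q] [Finite Q] {p : ℕ} [Fact p.Prime]
    (hQ : IsPGroup p Q) (hnc : ¬ ∀ a b : Q, a * b = b * a) :
    2 ≤ Nat.card (Subgroup.center Q) := by
  haveI : Nontrivial Q := by
    push Not at hnc
    obtain ⟨a, b, hab⟩ := hnc
    exact ⟨⟨a * b, b * a, hab⟩⟩
  haveI : Nontrivial (Subgroup.center Q) := hQ.center_nontrivial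
  exact Finite.one_lt_card

theorem card_eq_of_classes_le_three {Q : Type u} [Group Q] [Finite Q] {p : ℕ} [Fact p.Prime]
    (hQ : IsPGroup p Q) (h : Nat.card (ConjClasses Q) ≤ 3) :
    Nat.card Q = Nat.card (ConjClasses Q) := by
  by_cases hc : ∀ a b : Q, a * b = b * a
  · exact card_eq_of_comm hc
  have hz := two_le_center hQ hc
  have := center_add_classes_le (Q := Q)
  have := card_le_two (Q := Q ⧸ Subgroup.center Q) (by omega)
  exact card_eq_of_comm (comm_of_quotient_le_three (by omega))

/-- A `p`-group with at most four classes is abelian, so has as many elements as classes. -/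
theorem card_eq_of_classes_le_four {Q : Type u} [Group Q] [Finite Q] {p : ℕ} [Fact p.Prime]
    (hQ : IsPGroup p Q) (h : Nat.card (ConjClasses Q) ≤ 4) :
    Nat.card Q = Nat.card (ConjClasses Q) := by
  by_cases hc : ∀ a b : Q, a * b = b * a
  · exact card_eq_of_comm hc
  have hz := two_le_center hQ hc
  have := center_add_classes_le (Q := Q)
  have := card_eq_of_classes_le_three (hQ.to_quotient (Subgroup.center Q)) (by omega)
  exact card_eq_of_comm (comm_of_quotient_le_three (by omega))

end Cfsg.Agent.H81.SmallBlock
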