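import Cfsg.Agent.H81.SmallBlock.Basic
import Cfsg.Agent.H81.SmallBlock.Classes

/-!
# Principal blocks with three characters
-/

open scoped ComplexConjugate

namespace Cfsg.Agent.H81.SmallBlock

open CharBasic BlockBasic Cfsg

universe u

variable {G : Type u} [Group G] [Fintype G] {p : ℕ} [Fact p.Prime] {M : Ideal Cfsg.AlgInt}

theorem card_eq_three (hM : Cfsg.IsPModular p M) (hk : (prin M G).card = 3) (D : Sylow p G) :
    Nat.card (D : Subgroup G) = 3 := by
  classical
  have hp : p.Prime := Fact.out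
  by_cases hconst : ∀ χ ∈ prin M G, ∀ g : G, ¬ p ∣ orderOf g → (χ : G → ℂ) g = (χ : G → ℂ) 1
  · have h := card_eq_classes_of_regular_const hM hconst D
    rw [card_eq_of_classes_le_four D.isPGroup' (by omega), ← h, hk]
  -- the Sylow subgroup is non-trivial
  have hq1 : 1 < Nat.card (D : Subgroup G) := by
    by_contra h
    apply hconst
    have h1 : Nat.card (D : Subgroup G) = 1 := by
      have := Nat.card_pos (α := (D : Subgroup G))
      omega
    refine regular_const_of_complement hM ⟨D, ⊤, inferInstance, ?_⟩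
    rw [Subgroup.isComplement'_top_left]
    exact Subgroup.eq_bot_of_card_eq _ h1
  obtain ⟨u0, hu0D, hu0⟩ : ∃ u ∈ (D : Subgroup G), u ≠ 1 := by
    haveI : Nontrivial (D : Subgroup G) := Finite.one_lt_card_iff_nontrivial.1 hq1
    obtain ⟨u, hu⟩ := exists_ne (1 : (D : Subgroup G))
    exact ⟨u, u.2, fun e => hu (Subtype.ext e)⟩
  have hsing : ∀ u ∈ (D : Subgroup G), u ≠ 1 → p ∣ orderOf u := by
    intro u hu hu1
    obtain ⟨k, hk'⟩ := IsPGroup.iff_orderOf.1 D.isPGroup' ⟨u, hu⟩
    rw [Subgroup.orderOf_mk] at hk'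
    rcases k with _ | k
    · rw [pow_zero, orderOf_eq_one_iff] at hk'; exact absurd hk' hu1
    · exact hk' ▸ dvd_pow_self p k.succ_ne_zero
  -- the three characters
  have htB := trivial_mem (G := G) hM
  obtain ⟨χ, ψ, hne, hB⟩ := Finset.card_eq_two.1
    (show ((prin M G).erase trivialIrr).card = 2 by rw [Finset.card_erase_of_mem htB, hk])
  have hχ : χ ∈ prin M G ∧ χ ≠ trivialIrr := by
    have : χ ∈ (prin M G).erase trivialIrr := by rw [hB]; simp
    exact ⟨Finset.mem_of_mem_erase this, Finset.ne_of_mem_erase this⟩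
  have hψ : ψ ∈ prin M G ∧ ψ ≠ trivialIrr := by
    have : ψ ∈ (prin M G).erase trivialIrr := by rw [hB]; simp
    exact ⟨Finset.mem_of_mem_erase this, Finset.ne_of_mem_erase this⟩
  have hmem : ∀ η ∈ prin M G, η = trivialIrr ∨ η = χ ∨ η = ψ := by
    intro η hη
    by_cases h : η = trivialIrr
    · exact Or.inl h
    · have : η ∈ (prin M G).erase trivialIrr := Finset.mem_erase.2 ⟨h, hη⟩
      rw [hB] at this
      simpa [h] using this
  have hsum : ∀ F : Cfsg.IrrCharacter G → ℂ, ∑ η ∈ prin M G, F η = F trivialIrr + (F χ + F ψ) := by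
    intro F
    rw [← Finset.add_sum_erase _ _ htB, hB, Finset.sum_pair hne]
  have horth : ∀ g w : G, ¬ p ∣ orderOf g → p ∣ orderOf w →
      1 + ((χ : G → ℂ) w * conj ((χ : G → ℂ) g) + (ψ : G → ℂ) w * conj ((ψ : G → ℂ) g)) = 0 := by
    intro g w hg hw
    have h := orth_regular_singular hM hg hw
    rw [hsum] at h
    simpa [trivialIrr] using h
  have h1reg : ¬ p ∣ orderOf (1 : G) := by
    rw [orderOf_one, Nat.dvd_one]; exact hp.ne_one
  set d : ℕ := Cfsg.charDegree (χ : G → ℂ) with hd
  set f : ℕ := Cfsg.charDegree (ψ : G → ℂ) with hf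
  have hd1 : (χ : G → ℂ) 1 = (d : ℂ) := apply_one_eq_charDegree χ
  have hf1 : (ψ : G → ℂ) 1 = (f : ℂ) := apply_one_eq_charDegree ψ
  push Not at hconst
  obtain ⟨η, hη, g0, hg0, hg0ne⟩ := hconst
  set A := conj ((χ : G → ℂ) g0) with hA
  set B := conj ((ψ : G → ℂ) g0) with hBd
  have hdet : (d : ℂ) * B - (f : ℂ) * A ≠ 0 := by
    intro h0
    have e1 := horth 1 u0 h1reg (hsing u0 hu0D hu0)
    have e2 := horth g0 u0 hg0 (hsing u0 hu0D hu0)
    rw [hd1, hf1, Complex.conj_natCast, Complex.conj_natCast] at e1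
    rw [← hA, ← hBd] at e2
    have hA' : A = (d : ℂ) := by linear_combination -(d : ℂ) * e2 + A * e1 + (ψ : G → ℂ) u0 * h0
    have hB' : B = (f : ℂ) := by linear_combination -(f : ℂ) * e2 + B * e1 - (χ : G → ℂ) u0 * h0
    apply hg0ne
    rcases hmem η hη with rfl | rfl | rfl
    · rfl
    · rw [hd1, ← Complex.conj_conj ((η : G → ℂ) g0), ← hA, hA', Complex.conj_natCast]
    · rw [hf1, ← Complex.conj_conj ((η : G → ℂ) g0), ← hBd, hB', Complex.conj_natCast]
  -- constant values on singular elements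
  have hval : ∀ w : G, p ∣ orderOf w →
      (χ : G → ℂ) w = (χ : G → ℂ) u0 ∧ (ψ : G → ℂ) w = (ψ : G → ℂ) u0 := by
    intro w hw
    have e1 := horth 1 w h1reg hw
    have e2 := horth g0 w hg0 hw
    have e3 := horth 1 u0 h1reg (hsing u0 hu0D hu0)
    have e4 := horth g0 u0 hg0 (hsing u0 hu0D hu0)
    rw [hd1, hf1, Complex.conj_natCast, Complex.conj_natCast] at e1 e3
    rw [← hA, ← hBd] at e2 e4
    constructor
    · apply mul_left_cancel₀ hdet
      linear_combination B * e1 - B * e3 - (f : ℂ) * e2 + (f : ℂ) * e4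
    · apply mul_left_cancel₀ hdet
      linear_combination (d : ℂ) * e2 - (d : ℂ) * e4 - A * e1 + A * e3
  obtain ⟨a, ha, haq⟩ := exists_int_of_sylow_const χ D hq1 (v := (χ : G → ℂ) u0)
    fun u hu hu1 => (hval u (hsing u hu hu1)).1
  obtain ⟨b, hb, hbq⟩ := exists_int_of_sylow_const ψ D hq1 (v := (ψ : G → ℂ) u0)
    fun u hu hu1 => (hval u (hsing u hu hu1)).2
  have hdvdG : p ∣ Nat.card G :=
    (hsing u0 hu0D hu0).trans (orderOf_dvd_natCard u0)
  have heq : 1 + (a * d + b * f) = 0 := by
    have h := horth 1 u0 h1reg (hsing u0 hu0D hu0)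
    rw [hd1, hf1, Complex.conj_natCast, Complex.conj_natCast, ha, hb] at h
    exact_mod_cast h
  have hqS : (Nat.card (D : Subgroup G) : ℤ) ∣ 1 + a * a + b * b := by
    have h := dvd_add (haq.mul_left a) (hbq.mul_left b)
    rw [← hd, ← hf] at h
    rw [show 1 + a * a + b * b = -(a * ((d : ℤ) - a) + b * ((f : ℤ) - b)) by linear_combination heq]
    exact dvd_neg.2 h
  obtain ⟨n, hn⟩ := IsPGroup.iff_card.1 D.isPGroup'
  by_cases hp2 : p = 2
  · subst hp2
    rcases n with _ | _ | n
    · rw [hn] at hq1; simp at hq1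
    · -- a Sylow subgroup of order two has a normal complement
      have hcyc : IsCyclic (D : Subgroup G) := isCyclic_of_prime_card (p := 2) (by rw [hn]; rfl)
      have hC := regular_const_of_complement (G := G) hM
        (Fusion.hasNormalPComplement_of_normalizer_le_centralizer D
          (IsCyclic.normalizer_le_centralizer (Nat.minFac_eq_two_iff _ |>.2 hdvdG) hcyc))
      exact absurd (hC η hη g0 hg0) hg0ne
    · have h4 : ((4 : ℕ) : ℤ) ∣ 1 + a * a + b * b := by
        refine dvd_trans ?_ hqS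
        rw [hn, Int.natCast_dvd_natCast]
        exact ⟨2 ^ n, by ring⟩
      have hz := (ZMod.intCast_zmod_eq_zero_iff_dvd _ _).2 h4
      push_cast at hz
      exact absurd hz ((by decide : ∀ s t : ZMod 4, 1 + s * s + t * t ≠ 0) _ _)
  have ha0 := value_ne_zero hM hdvdG hχ.1 hχ.2 D haq
  have hb0 := value_ne_zero hM hdvdG hψ.1 hψ.2 D hbq
  -- square roots
  set W := Finset.univ.filter (fun g : G => p ∣ orderOf g) with hW
  have hW0 : (W.card : ℂ) ≠ 0 := Nat.cast_ne_zero.2
    (Finset.card_ne_zero.2 ⟨u0, Finset.mem_filter.2 ⟨Finset.mem_univ _, hsing u0 hu0D hu0⟩⟩)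
  have hWsum : ∀ (θ : G → ℂ) (v : ℂ), (∀ w, p ∣ orderOf w → θ w = v) →
      ∑ g ∈ W, θ g = (W.card : ℂ) * v := by
    intro θ v h
    rw [Finset.sum_congr rfl fun g hg => h g (Finset.mem_filter.1 hg).2, Finset.sum_const, nsmul_eq_mul]
  have hχW : ∑ g ∈ W, (χ : G → ℂ) g = (W.card : ℂ) * a :=
    hWsum _ _ fun w hw => (hval w hw).1.trans ha
  have hψW : ∑ g ∈ W, (ψ : G → ℂ) g = (W.card : ℂ) * b :=
    hWsum _ _ fun w hw => (hval w hw).2.trans hb
  have hnu : conj (ind χ) * (a : ℂ) + conj (ind ψ) * (b : ℂ) = 0 := by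
    have h := sum_ind (G := G) hM hp2
    rw [hsum, ← hW, hχW, hψW, ind_trivial] at h
    simp only [trivialIrr, Finset.sum_const, nsmul_eq_mul, mul_one, map_one, one_mul] at h
    apply mul_left_cancel₀ hW0
    linear_combination h
  have hab : a * a = b * b := by
    have hreal : ∀ (θ : Cfsg.IrrCharacter G), (ind θ = 0 ∧ ∃ s : G, ((θ : G → ℂ) s).im ≠ 0) ∨
        (ind θ = 1 ∨ ind θ = -1) := by
      intro θ
      rcases H86.indicator_cases θ.2 with h | ⟨-, h⟩
      · exact Or.inl h
      · exact Or.inr h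
    rcases hreal χ with ⟨h1, s, hs⟩ | h1 <;> rcases hreal ψ with ⟨h2, -⟩ | h2
    · -- a conjugate pair
      have hbar : bar χ ∈ prin M G := by
        by_contra hno
        have h := sum_singular_eq_zero hM hno
        simp only [bar_apply, ← map_sum, ← hW, hχW, map_mul, map_natCast, map_intCast] at h
        exact mul_ne_zero hW0 (Int.cast_ne_zero.2 ha0) h
      rcases hmem _ hbar with h | h | h
      · exfalso
        apply hχ.2
        refine Subtype.ext (funext fun g => ?_)
        have := congrArg (fun θ : Cfsg.IrrCharacter G => conj ((θ : G → ℂ) g)) h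
        simpa [bar_apply, trivialIrr] using this
      · exfalso
        apply hs
        exact Complex.conj_eq_iff_im.1 (congrArg (fun θ : Cfsg.IrrCharacter G => (θ : G → ℂ) s) h)
      · have := congrArg (fun θ : Cfsg.IrrCharacter G => (θ : G → ℂ) u0) h
        simp only [bar_apply, ha, hb, map_intCast] at this
        rw [Int.cast_inj.1 this]
    · rw [h1, map_zero, zero_mul, zero_add] at hnu
      rcases h2 with h2 | h2 <;> rw [h2] at hnu <;> simp [hb0] at hnu
    · rw [h2, map_zero, zero_mul, add_zero] at hnu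
      rcases h1 with h1 | h1 <;> rw [h1] at hnu <;> simp [ha0] at hnu
    · have h' : (a : ℂ) * a = (b : ℂ) * b := by
        rcases h1 with h1 | h1 <;> rcases h2 with h2 | h2 <;>
          (rw [h1, h2] at hnu
           simp only [map_one, map_neg, one_mul, neg_one_mul] at hnu)
        · linear_combination ((a : ℂ) - b) * hnu
        · linear_combination ((a : ℂ) + b) * hnu
        · linear_combination -((a : ℂ) + b) * hnu
        · linear_combination -((a : ℂ) - b) * hnu
      exact_mod_cast h'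
  -- `a = ±1`
  have hunit : a * a = 1 := by
    have hdvd : a ∣ 1 := by
      rcases mul_self_eq_mul_self_iff.1 hab with h | h
      · exact ⟨-(d : ℤ) - f, by rw [← h] at heq; linear_combination heq⟩
      · exact ⟨-(d : ℤ) + f, by rw [h] at heq ⊢; linear_combination heq⟩
    rcases Int.isUnit_iff.1 (isUnit_of_dvd_one hdvd) with h | h <;> simp [h]
  rw [← hab, hunit] at hqS
  -- the Sylow subgroup has order three, hence every regular element acts trivially
  have h3 : Nat.card (D : Subgroup G) ∣ 3 := by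
    exact_mod_cast hqS
  exact (Nat.prime_three.eq_one_or_self_of_dvd _ h3).resolve_left (by omega)

end Cfsg.Agent.H81.SmallBlock
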